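import Cfsg.Agent.Lib.FixedHalf.Criterion
import Mathlib.Algebra.Group.Subgroup.Finite
import Mathlib.LinearAlgebra.FiniteDimensional.Lemmas
import Mathlib.LinearAlgebra.Quotient.Basic

/-!
# The average fixed space over a coset of an abelian group without fixed points

* `two_mul_sum_fix_le` : `L` abelian of order invertible in `k`, acting on `V` without nonzero fixed
  vector, `T` an injective map normalising it; the fixed spaces of the maps `T l` have dimension at
  most `dim V / 2` on average.
-/

set_option autoImplicit false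
set_option linter.unusedSectionVars false

open Module

namespace Cfsg.Agent.PrimitiveClassSize

open FixedHalf

variable {k : Type*} [Field k] {L : Type*} [CommGroup L] [Fintype L]

section Basic

variable {V : Type*} [AddCommGroup V] [Module k V]

/-- The fixed space of a subgroup. -/
def fixGroup (ρ : L →* Module.End k V) (U : Subgroup L) : Submodule k V :=
  ⨅ u : U, fixSub (ρ (u : L))

theorem mem_fixGroup {ρ : L →* Module.End k V} {U : Subgroup L} {v : V} :
    v ∈ fixGroup ρ U ↔ ∀ u ∈ U, ρ u v = v := by
  simp [fixGroup, Submodule.mem_iInf, mem_fixSub]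

/-- The subgroup fixing a vector. -/
def vecStab (ρ : L →* Module.End k V) (v : V) : Subgroup L where
  carrier := {l | ρ l v = v}
  one_mem' := by simp
  mul_mem' := fun {a b} ha hb => by
    show ρ (a * b) v = v
    rw [map_mul, Module.End.mul_apply, hb, ha]
  inv_mem' := fun {a} ha => by
    show ρ a⁻¹ v = v
    conv_lhs => rw [← ha]
    rw [← Module.End.mul_apply, ← map_mul, inv_mul_cancel, map_one, Module.End.one_apply]

/-- The unnormalised projection to the fixed space of a subgroup. -/
noncomputable def fixNorm (ρ : L →* Module.End k V) (U : Subgroup L) : Module.End k V :=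
  haveI := Fintype.ofFinite U
  ∑ u : U, ρ (u : L)

theorem fixNorm_apply (ρ : L →* Module.End k V) (U : Subgroup L) [Fintype U] (v : V) :
    fixNorm ρ U v = ∑ u : U, ρ (u : L) v := by
  rw [fixNorm, LinearMap.sum_apply]
  exact Finset.sum_congr (by ext; simp) fun _ _ => rfl

theorem fixNorm_mem (ρ : L →* Module.End k V) (U : Subgroup L) (v : V) :
    fixNorm ρ U v ∈ fixGroup ρ U := by
  haveI := Fintype.ofFinite U
  refine mem_fixGroup.2 fun w hw => ?_
  rw [fixNorm_apply, map_sum]
  refine Fintype.sum_equiv (Equiv.mulLeft ⟨w, hw⟩) _ _ fun u => ?_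
  rw [← Module.End.mul_apply, ← map_mul]
  rfl

theorem fixNorm_comm (ρ : L →* Module.End k V) (U : Subgroup L) (l : L) (v : V) :
    fixNorm ρ U (ρ l v) = ρ l (fixNorm ρ U v) := by
  haveI := Fintype.ofFinite U
  rw [fixNorm_apply, fixNorm_apply, map_sum]
  refine Finset.sum_congr rfl fun u _ => ?_
  rw [← Module.End.mul_apply, ← map_mul, mul_comm, map_mul, Module.End.mul_apply]

theorem fixNorm_fix (ρ : L →* Module.End k V) (U : Subgroup L) {v : V} (hv : v ∈ fixGroup ρ U) :
    fixNorm ρ U v = (Nat.card U : k) • v := by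
  haveI := Fintype.ofFinite U
  rw [fixNorm_apply, Finset.sum_congr rfl fun (u : U) _ => mem_fixGroup.1 hv u u.2,
    Finset.sum_const, Finset.card_univ, ← Nat.card_eq_fintype_card, Nat.cast_smul_eq_nsmul]

theorem fixNorm_twist {ρ : L →* Module.End k V} {T : Module.End k V} {σ : MulAut L}
    (hT : ∀ l, T * ρ l = ρ (σ l) * T) (U : Subgroup L) (v : V) :
    T (fixNorm ρ U v) = fixNorm ρ (U.map σ.toMonoidHom) (T v) := by
  haveI := Fintype.ofFinite U
  haveI := Fintype.ofFinite ↥(U.map σ.toMonoidHom)
  rw [fixNorm_apply, fixNorm_apply, map_sum]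
  refine Fintype.sum_equiv (U.equivMapOfInjective σ.toMonoidHom σ.injective).toEquiv _ _ fun u => ?_
  rw [← Module.End.mul_apply, hT]
  rfl

theorem cast_card_ne_zero (hL : (Nat.card L : k) ≠ 0) (U : Subgroup L) : (Nat.card U : k) ≠ 0 := by
  intro h
  obtain ⟨c, hc⟩ := U.card_subgroup_dvd_card
  apply hL
  rw [hc, Nat.cast_mul, h, zero_mul]

end Basic

/-- The fixed space of a map is at most that on an invariant subspace plus that on the quotient. -/
theorem finrank_fixSub_le {V : Type*} [AddCommGroup V] [Module k V] [FiniteDimensional k V]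
    (f : Module.End k V) (W : Submodule k V) (hW : ∀ w ∈ W, f w ∈ W) :
    finrank k (fixSub f) ≤ finrank k (fixSub (f.restrict hW)) +
      finrank k (fixSub (W.mapQ W f hW)) := by
  set g : fixSub f →ₗ[k] fixSub (W.mapQ W f hW) :=
    LinearMap.codRestrict _ (W.mkQ.comp (fixSub f).subtype) fun x => by
      rw [mem_fixSub]
      simp only [LinearMap.coe_comp, Function.comp_apply, Submodule.coe_subtype,
        Submodule.mkQ_apply, Submodule.mapQ_apply, mem_fixSub.1 x.2] with hg
  rw [← g.finrank_range_add_finrank_ker, add_comm]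
  refine Nat.add_le_add ?_ (Submodule.finrank_le _)
  have hker : ∀ x : LinearMap.ker g, ((x : fixSub f) : V) ∈ W := fun x => by
    have := congrArg Subtype.val (LinearMap.mem_ker.1 x.2)
    change Submodule.Quotient.mk ((x : fixSub f) : V) = (0 : V ⧸ W) at this
    exact (Submodule.Quotient.mk_eq_zero W).1 this
  let i : LinearMap.ker g →ₗ[k] fixSub (f.restrict hW) :=
    { toFun := fun x => ⟨⟨((x : fixSub f) : V), hker x⟩,
        mem_fixSub.2 (Subtype.ext (mem_fixSub.1 (x : fixSub f).2))⟩
      map_add' := fun _ _ => rfl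
      map_smul' := fun _ _ => rfl }
  exact LinearMap.finrank_le_finrank_of_injective (f := i) fun a b h =>
    Subtype.ext (Subtype.ext (congrArg (fun z : fixSub (f.restrict hW) => ((z : W) : V)) h))

universe v

theorem two_mul_sum_fix_le_aux (hL : (Nat.card L : k) ≠ 0) (σ : MulAut L) :
    ∀ (n : ℕ) (V : Type v) [AddCommGroup V] [Module k V] [FiniteDimensional k V]
      (ρ : L →* Module.End k V) (T : Module.End k V), finrank k V = n → Function.Injective T →
      (∀ l, T * ρ l = ρ (σ l) * T) → (∀ v, (∀ l, ρ l v = v) → v = 0) →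
      2 * ∑ l, finrank k (fixSub (T * ρ l)) ≤ Nat.card L * n := by
  classical
  intro n
  induction n using Nat.strong_induction_on with
  | _ n ih =>
    intro V _ _ _ ρ T hn hTinj hT hfix
    rcases Nat.eq_zero_or_pos n with hn0 | hnpos
    · subst hn0
      have : ∀ l, finrank k (fixSub (T * ρ l)) = 0 := fun l =>
        Nat.le_zero.1 (hn ▸ Submodule.finrank_le _)
      simp [this]
    have hVnt : Nontrivial V := Module.nontrivial_of_finrank_pos (R := k) (hn ▸ hnpos)
    have hρinj : ∀ l, Function.Injective (ρ l) := fun l =>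
      Function.LeftInverse.injective (g := ⇑(ρ l⁻¹)) fun v => by
        rw [← Module.End.mul_apply, ← map_mul, inv_mul_cancel, map_one, Module.End.one_apply]
    by_cases hred : ∃ W : Submodule k V, W ≠ ⊥ ∧ W ≠ ⊤ ∧ (∀ w ∈ W, T w ∈ W) ∧
        ∀ l, ∀ w ∈ W, ρ l w ∈ W
    · obtain ⟨W, hW0, hW1, hTW, hρW⟩ := hred
      have hlt : finrank k W < n := hn ▸ Submodule.finrank_lt hW1
      have hpos : 0 < finrank k W := Nat.pos_of_ne_zero fun h => hW0 (Submodule.finrank_eq_zero.1 h)
      have hsum := Submodule.finrank_quotient_add_finrank W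
      let ρW : L →* Module.End k W :=
        { toFun := fun l => (ρ l).restrict (hρW l)
          map_one' := LinearMap.ext fun w => Subtype.ext (by simp [LinearMap.restrict_apply])
          map_mul' := fun a b => LinearMap.ext fun w => Subtype.ext (by
            simp [LinearMap.restrict_apply, map_mul]) }
      let ρQ : L →* Module.End k (V ⧸ W) :=
        { toFun := fun l => W.mapQ W (ρ l) (hρW l)
          map_one' := Submodule.linearMap_qext _ (LinearMap.ext fun v => by simp)
          map_mul' := fun a b => Submodule.linearMap_qext _ (LinearMap.ext fun v => by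
            simp [map_mul]) }
      have hTWinj : Function.Injective (T.restrict hTW) := fun a b h =>
        Subtype.ext (hTinj (congrArg Subtype.val h))
      have hTQinj : Function.Injective (W.mapQ W T hTW) := by
        rw [injective_iff_map_eq_zero]
        intro x
        induction x using Submodule.Quotient.induction_on with
        | _ v =>
          intro hx
          rw [Submodule.mapQ_apply, Submodule.Quotient.mk_eq_zero] at hx
          obtain ⟨w, hw⟩ := (LinearMap.injective_iff_surjective.1 hTWinj) ⟨T v, hx⟩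
          rw [Submodule.Quotient.mk_eq_zero]
          have : (w : V) = v := hTinj (congrArg Subtype.val hw)
          exact this ▸ w.2
      have i1 := ih _ hlt W ρW (T.restrict hTW) rfl hTWinj
        (fun l => LinearMap.ext fun w => Subtype.ext (by
          simpa [ρW, LinearMap.restrict_apply] using LinearMap.congr_fun (hT l) (w : V)))
        (fun w hw => Subtype.ext (hfix _ fun l => congrArg Subtype.val (hw l)))
      have i2 := ih (finrank k (V ⧸ W)) (by omega) (V ⧸ W) ρQ (W.mapQ W T hTW) rfl hTQinj
        (fun l => Submodule.linearMap_qext _ (LinearMap.ext fun v => by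
          have := LinearMap.congr_fun (hT l) v
          simp [ρQ] at this ⊢
          rw [this]))
        (by
          intro x hx
          induction x using Submodule.Quotient.induction_on with
          | _ v =>
            have h1 : fixNorm ρ ⊤ v = 0 := hfix _ fun l =>
              mem_fixGroup.1 (fixNorm_mem ρ ⊤ v) l (Subgroup.mem_top l)
            have h2 := congrArg W.mkQ h1
            have h3 : ∀ u : (⊤ : Subgroup L), W.mkQ (ρ (u : L) v) = Submodule.Quotient.mk v :=
              fun u => hx (u : L)
            rw [fixNorm_apply, map_sum, map_zero, Finset.sum_congr rfl fun u _ => h3 u,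
              Finset.sum_const, Finset.card_univ, ← Nat.card_eq_fintype_card,
              ← Nat.cast_smul_eq_nsmul k] at h2
            exact (smul_eq_zero.1 h2).resolve_left (cast_card_ne_zero hL ⊤))
      calc 2 * ∑ l, finrank k (fixSub (T * ρ l))
          ≤ 2 * ∑ l, (finrank k (fixSub (T.restrict hTW * ρW l)) +
              finrank k (fixSub (W.mapQ W T hTW * ρQ l))) := by
            refine Nat.mul_le_mul_left 2 (Finset.sum_le_sum fun l _ => ?_)
            have hl : ∀ w ∈ W, (T * ρ l) w ∈ W := fun w hw => hTW _ (hρW l w hw)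
            have h := finrank_fixSub_le (T * ρ l) W hl
            have e1 : (T * ρ l).restrict hl = T.restrict hTW * ρW l :=
              LinearMap.ext fun w => Subtype.ext rfl
            have e2 : W.mapQ W (T * ρ l) hl = W.mapQ W T hTW * ρQ l :=
              Submodule.linearMap_qext _ (LinearMap.ext fun v => rfl)
            rwa [e1, e2] at h
        _ ≤ Nat.card L * n := by
            rw [Finset.sum_add_distrib, Nat.mul_add, ← hn, ← hsum, Nat.mul_add]
            omega
    push Not at hred
    have hinvar : ∀ W : Submodule k V, W ≠ ⊥ → (∀ w ∈ W, T w ∈ W) →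
        (∀ l, ∀ w ∈ W, ρ l w ∈ W) → W = ⊤ := fun W h0 h1 h2 => by
      by_contra hne
      obtain ⟨l, w, hw, hnw⟩ := hred W h0 hne h1
      exact hnw (h2 l w hw)
    -- a subgroup of largest order with a nonzero fixed vector
    have hbot : fixGroup ρ ⊥ ≠ ⊥ := by
      intro h
      obtain ⟨v, hv⟩ := exists_ne (0 : V)
      refine hv ((Submodule.mem_bot k).1 (h ▸ mem_fixGroup.2 fun u hu => ?_))
      rw [Subgroup.mem_bot.1 hu, map_one, Module.End.one_apply]
    obtain ⟨U, hU, hmax⟩ := Set.Finite.exists_maximalFor (fun U : Subgroup L => Nat.card U)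
      {U : Subgroup L | fixGroup ρ U ≠ ⊥} (Set.toFinite _) ⟨⊥, hbot⟩
    have hmax' : ∀ U' : Subgroup L, fixGroup ρ U' ≠ ⊥ → Nat.card U ≤ Nat.card U' →
        ∀ x ∉ U', fixGroup ρ U' ⊓ fixSub (ρ x) = ⊥ := by
      intro U' hU' hc x hx
      rw [eq_bot_iff]
      intro v hv
      by_contra hv0
      have hle : U' ⊔ Subgroup.zpowers x ≤ vecStab ρ v :=
        sup_le (fun u hu => mem_fixGroup.1 hv.1 u hu) (Subgroup.zpowers_le.2 (mem_fixSub.1 hv.2))
      have hne : fixGroup ρ (U' ⊔ Subgroup.zpowers x) ≠ ⊥ := fun h =>
        hv0 (h ▸ mem_fixGroup.2 fun u hu => hle hu)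
      have h1 : Nat.card ↥(U' ⊔ Subgroup.zpowers x) ≤ Nat.card U' := by
        by_contra hcon
        have := hmax hne (by show Nat.card U ≤ Nat.card ↥(U' ⊔ Subgroup.zpowers x); omega)
        change Nat.card ↥(U' ⊔ Subgroup.zpowers x) ≤ Nat.card U at this
        omega
      exact hx ((Subgroup.eq_of_le_of_card_ge le_sup_left h1).symm ▸
        Subgroup.mem_sup_right (Subgroup.mem_zpowers x))
    have hUtop : U ≠ ⊤ := by
      rintro rfl
      exact hU ((Submodule.eq_bot_iff _).2 fun v hv =>
        hfix v fun l => mem_fixGroup.1 hv l (Subgroup.mem_top l))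
    have hρfix : ∀ (U' : Subgroup L) (l : L), ∀ w ∈ fixGroup ρ U', ρ l w ∈ fixGroup ρ U' := by
      intro U' l w hw
      refine mem_fixGroup.2 fun u hu => ?_
      rw [← Module.End.mul_apply, ← map_mul, mul_comm, map_mul, Module.End.mul_apply,
        mem_fixGroup.1 hw u hu]
    have hTfix : ∀ U' : Subgroup L, ∀ w ∈ fixGroup ρ U', T w ∈ fixGroup ρ (U'.map σ.toMonoidHom) := by
      intro U' w hw
      refine mem_fixGroup.2 ?_
      rintro _ ⟨u, hu, rfl⟩
      show ρ (σ u) (T w) = T w
      rw [← Module.End.mul_apply, ← hT, Module.End.mul_apply, mem_fixGroup.1 hw u hu]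
    by_cases hσU : U.map σ.toMonoidHom = U
    · have htop : fixGroup ρ U = ⊤ := hinvar _ hU
        (fun w hw => by have h := hTfix U w hw; rwa [hσU] at h) (hρfix U)
      have hpair : ∀ l l', l⁻¹ * l' ∉ U →
          finrank k (fixSub (T * ρ l)) + finrank k (fixSub (T * ρ l')) ≤ n := by
        intro l l' hll
        rw [← hn, ← Submodule.finrank_sup_add_finrank_inf_eq]
        have hinf : fixSub (T * ρ l) ⊓ fixSub (T * ρ l') = ⊥ := by
          rw [eq_bot_iff]
          intro v hv
          have h1 : ρ l v = ρ l' v :=
            hTinj ((mem_fixSub.1 hv.1).trans (mem_fixSub.1 hv.2).symm)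
          rw [← hmax' U hU le_rfl _ hll]
          refine ⟨htop ▸ Submodule.mem_top, mem_fixSub.2 ?_⟩
          rw [map_mul, Module.End.mul_apply, ← h1, ← Module.End.mul_apply, ← map_mul,
            inv_mul_cancel, map_one, Module.End.one_apply]
        rw [hinf, finrank_bot, add_zero]
        exact Submodule.finrank_le _
      set d := fun l => finrank k (fixSub (T * ρ l)) with hd
      set m := (Finset.univ.filter fun x : L => x ∉ U).card with hm
      have hmpos : 0 < m := by
        obtain ⟨x, hx⟩ : ∃ x, x ∉ U := by
          by_contra h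
          push Not at h
          exact hUtop (eq_top_iff.2 fun x _ => h x)
        exact Finset.card_pos.2 ⟨x, Finset.mem_filter.2 ⟨Finset.mem_univ _, hx⟩⟩
      have hcard : ∀ l, (Finset.univ.filter fun l' : L => l⁻¹ * l' ∉ U).card = m := fun l =>
        Finset.card_equiv (Equiv.mulLeft l⁻¹) (by simp)
      have hswap : ∑ l, ∑ l' ∈ Finset.univ.filter (fun l' : L => l⁻¹ * l' ∉ U), d l' = m * ∑ l, d l := by
        rw [Finset.sum_congr rfl fun l _ => Finset.sum_filter _ _, Finset.sum_comm, Finset.mul_sum]
        refine Finset.sum_congr rfl fun l' _ => ?_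
        rw [← Finset.sum_filter, Finset.sum_const, smul_eq_mul, ← hcard l']
        congr 2
        refine Finset.filter_congr fun l _ => ?_
        rw [← inv_mem_iff (x := l⁻¹ * l'), mul_inv_rev, inv_inv]
      have h1 : m * ∑ l, d l + m * ∑ l, d l ≤ Nat.card L * (m * n) := by
        calc m * ∑ l, d l + m * ∑ l, d l
            = ∑ l, ∑ l' ∈ Finset.univ.filter (fun l' : L => l⁻¹ * l' ∉ U), (d l + d l') := by
              rw [Finset.sum_congr rfl fun l _ => Finset.sum_add_distrib, Finset.sum_add_distrib,
                hswap, Finset.sum_congr rfl fun l _ => Finset.sum_const (d l), Finset.mul_sum]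
              simp [hcard]
          _ ≤ ∑ l, ∑ l' ∈ Finset.univ.filter (fun l' : L => l⁻¹ * l' ∉ U), n :=
              Finset.sum_le_sum fun l _ => Finset.sum_le_sum fun l' hl' =>
                hpair l l' (Finset.mem_filter.1 hl').2
          _ = Nat.card L * (m * n) := by simp [hcard, Nat.card_eq_fintype_card]
      refine Nat.le_of_mul_le_mul_left ?_ hmpos
      calc m * (2 * ∑ l, d l) = m * ∑ l, d l + m * ∑ l, d l := by ring
        _ ≤ Nat.card L * (m * n) := h1
        _ = m * (Nat.card L * n) := by ring
    · -- the conjugates of `U`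
      set s : Subgroup L → Subgroup L := fun W => W.map σ.toMonoidHom with hs
      have hiter : ∀ i, fixGroup ρ (s^[i] U) ≠ ⊥ ∧ Nat.card ↥(s^[i] U) = Nat.card U := by
        intro i
        induction i with
        | zero => exact ⟨hU, rfl⟩
        | succ i ih =>
          rw [Function.iterate_succ_apply']
          refine ⟨fun h => ih.1 ((Submodule.eq_bot_iff _).2 fun w hw => hTinj ?_), ?_⟩
          · rw [map_zero]
            exact (Submodule.mem_bot k).1 (h ▸ hTfix _ w hw)
          · rw [Subgroup.card_map_of_injective σ.injective]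
            exact ih.2
      set O : Finset (Subgroup L) := (Set.toFinite (Set.range fun i => s^[i] U)).toFinset with hO
      have hmemO : ∀ W, W ∈ O ↔ ∃ i, s^[i] U = W := fun W => by simp [hO]
      have hOne : ∀ W ∈ O, fixGroup ρ W ≠ ⊥ ∧ Nat.card W = Nat.card U := fun W hW => by
        obtain ⟨i, rfl⟩ := (hmemO W).1 hW
        exact hiter i
      have htop : ⨆ W ∈ O, fixGroup ρ W = ⊤ := by
        refine hinvar _ (fun h => hU (le_bot_iff.1 ?_)) ?_ ?_
        · exact h ▸ le_biSup (fixGroup ρ) ((hmemO U).2 ⟨0, rfl⟩)
        · suffices h : (⨆ W ∈ O, fixGroup ρ W) ≤ (⨆ W ∈ O, fixGroup ρ W).comap T from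
            fun w hw => h hw
          refine iSup₂_le fun W hW w hw => ?_
          obtain ⟨i, rfl⟩ := (hmemO W).1 hW
          exact le_biSup (fixGroup ρ) ((hmemO _).2 ⟨i + 1, rfl⟩)
            (by rw [Function.iterate_succ_apply']; exact hTfix _ w hw)
        · intro l
          suffices h : (⨆ W ∈ O, fixGroup ρ W) ≤ (⨆ W ∈ O, fixGroup ρ W).comap (ρ l) from
            fun w hw => h hw
          exact iSup₂_le fun W hW w hw => le_biSup (fixGroup ρ) hW (hρfix W l w hw)
      have hF : ∑ W ∈ O, fixNorm ρ W = (Nat.card U : k) • (1 : Module.End k V) := by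
        refine LinearMap.eqLocus_eq_top.1 (top_le_iff.1 (htop ▸ iSup₂_le fun W hW w hw => ?_))
        show (∑ W ∈ O, fixNorm ρ W) w = ((Nat.card U : k) • (1 : Module.End k V)) w
        rw [LinearMap.sum_apply, Finset.sum_eq_single W, fixNorm_fix ρ W hw, (hOne W hW).2]
        · rfl
        · intro W' hW' hne
          obtain ⟨u, hu, hu'⟩ : ∃ u ∈ W', u ∉ W := by
            by_contra h
            push Not at h
            exact hne (Subgroup.eq_of_le_of_card_ge h (by rw [(hOne W hW).2, (hOne W' hW').2]))
          have hin : fixNorm ρ W' w ∈ fixGroup ρ W ⊓ fixSub (ρ u) := by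
            refine ⟨mem_fixGroup.2 fun x hx => ?_,
              mem_fixSub.2 (mem_fixGroup.1 (fixNorm_mem ρ W' w) u hu)⟩
            rw [← fixNorm_comm, mem_fixGroup.1 hw x hx]
          rwa [hmax' W (hOne W hW).1 (hOne W hW).2.ge u hu', Submodule.mem_bot] at hin
        · exact fun h => absurd hW h
      have hne : fixGroup ρ U ⊓ fixGroup ρ (s U) = ⊥ := by
        obtain ⟨u, hu, hu'⟩ : ∃ u ∈ s U, u ∉ U := by
          by_contra h
          push Not at h
          exact hσU (Subgroup.eq_of_le_of_card_ge h (le_of_eq (hiter 1).2.symm))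
        exact le_bot_iff.1 ((inf_le_inf_left _ fun v hv => mem_fixSub.2
          (mem_fixGroup.1 hv u hu)).trans (hmax' U hU le_rfl u hu').le)
      have hstep : ∀ l v, (T * ρ l) v = v → ∀ W,
          fixNorm ρ (s W) v = T (ρ l (fixNorm ρ W v)) := by
        intro l v hv W
        conv_lhs => rw [← hv]
        rw [Module.End.mul_apply, ← fixNorm_twist hT, fixNorm_comm]
      have hbound : ∀ l, 2 * finrank k (fixSub (T * ρ l)) ≤ n := by
        intro l
        have hinj : ∀ v ∈ fixSub (T * ρ l), fixNorm ρ U v = 0 → v = 0 := by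
          intro v hv h0
          have hall : ∀ i, fixNorm ρ (s^[i] U) v = 0 := by
            intro i
            induction i with
            | zero => exact h0
            | succ i ih =>
              rw [Function.iterate_succ_apply', hstep l v (mem_fixSub.1 hv), ih, map_zero, map_zero]
          have h1 := LinearMap.congr_fun hF v
          rw [LinearMap.sum_apply, Finset.sum_eq_zero (fun W hW => by
            obtain ⟨i, rfl⟩ := (hmemO W).1 hW; exact hall i)] at h1
          exact (smul_eq_zero.1 h1.symm).resolve_left (cast_card_ne_zero hL U)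
        have hle : ∀ W, (∀ v ∈ fixSub (T * ρ l), fixNorm ρ W v = 0 → v = 0) →
            finrank k (fixSub (T * ρ l)) ≤ finrank k (fixGroup ρ W) := fun W hW =>
          LinearMap.finrank_le_finrank_of_injective
            (f := LinearMap.codRestrict (fixGroup ρ W) ((fixNorm ρ W).comp (fixSub (T * ρ l)).subtype)
              fun x => fixNorm_mem ρ W _) ((injective_iff_map_eq_zero _).2 fun x hx =>
              Subtype.ext (hW x x.2 (congrArg Subtype.val hx)))
        have h1 := hle U hinj
        have h2 := hle (s U) fun v hv h0 => hinj v hv (hρinj l (hTinj (by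
          rw [map_zero, map_zero, ← hstep l v (mem_fixSub.1 hv), h0])))
        have h3 := Submodule.finrank_sup_add_finrank_inf_eq (fixGroup ρ U) (fixGroup ρ (s U))
        have h4 := Submodule.finrank_le (fixGroup ρ U ⊔ fixGroup ρ (s U))
        rw [hne, finrank_bot, add_zero] at h3
        omega
      calc 2 * ∑ l, finrank k (fixSub (T * ρ l)) = ∑ l, 2 * finrank k (fixSub (T * ρ l)) :=
            Finset.mul_sum _ _ _
        _ ≤ ∑ _l : L, n := Finset.sum_le_sum fun l _ => hbound l
        _ = Nat.card L * n := by simp [Nat.card_eq_fintype_card]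

/-- The average over the coset `T L` of the dimension of the fixed space is at most half of the
dimension. -/
theorem two_mul_sum_fix_le (hL : (Nat.card L : k) ≠ 0) (σ : MulAut L) {V : Type v} [AddCommGroup V]
    [Module k V] [FiniteDimensional k V] (ρ : L →* Module.End k V) (T : Module.End k V)
    (hT : Function.Injective T) (hσ : ∀ l, T * ρ l = ρ (σ l) * T)
    (hfix : ∀ v, (∀ l, ρ l v = v) → v = 0) :
    2 * ∑ l, finrank k (fixSub (T * ρ l)) ≤ Nat.card L * finrank k V :=
  two_mul_sum_fix_le_aux hL σ _ V ρ T rfl hT hσ hfix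

end Cfsg.Agent.PrimitiveClassSize
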