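import Cfsg.Agent.Lib.PrimitiveClassSize.Coset
import Cfsg.Agent.Lib.Solvable.Basic
import Mathlib.Algebra.Module.ZMod
import Mathlib.GroupTheory.PGroup
import Mathlib.GroupTheory.QuotientGroup.Basic

/-!
# The average fixed space of an irreducible module of a solvable group

* `two_mul_sum_fix_irred` : a solvable group acting irreducibly and nontrivially on a module over
  `ZMod p`; the fixed spaces of the elements have dimension at most half of that of the module on
  average.
-/

set_option autoImplicit false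
set_option linter.unusedSectionVars false

open Module

namespace Cfsg.Agent.PrimitiveClassSize

open FixedHalf

universe u v

variable {p : ℕ} [hp : Fact p.Prime] {V : Type v} [AddCommGroup V] [Module (ZMod p) V] [Finite V]
  [Nontrivial V]

theorem two_mul_sum_fix_faithful {H : Type u} [Group H] [Fintype H] [Group.IsSolvable H]
    [Nontrivial H] (ρ : H →* Module.End (ZMod p) V) (hinj : Function.Injective ρ)
    (hirr : ∀ W : Submodule (ZMod p) V, (∀ h, ∀ w ∈ W, ρ h w ∈ W) → W = ⊥ ∨ W = ⊤) :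
    2 * ∑ h, finrank (ZMod p) (fixSub (ρ h)) ≤ Nat.card H * finrank (ZMod p) V := by
  classical
  obtain ⟨r, hr, M, hMn, hM0, -, hMc, hMp, hMe, -⟩ :=
    Solvable.exists_minimal_normal_pGroup (N := (⊤ : Subgroup H)) top_ne_bot
  letI : CommGroup M := { (inferInstance : Group M) with mul_comm := mul_comm' }
  have hinv : ∀ h, Function.Injective (ρ h) := fun h =>
    Function.LeftInverse.injective (g := ⇑(ρ h⁻¹)) fun v => by
      rw [← Module.End.mul_apply, ← map_mul, inv_mul_cancel, map_one, Module.End.one_apply]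
  let ρM : M →* Module.End (ZMod p) V := ρ.comp M.subtype
  have hfixM : fixGroup ρM ⊤ = ⊥ := by
    refine (hirr _ fun h w hw => mem_fixGroup.2 fun m _ => ?_).resolve_right fun htop => ?_
    · show ρ (m : H) (ρ h w) = ρ h w
      have hm : h⁻¹ * (m : H) * h ∈ M := by simpa using hMn.conj_mem _ m.2 h⁻¹
      have h1 : ρ (h⁻¹ * (m : H) * h) w = w := mem_fixGroup.1 hw ⟨_, hm⟩ (Subgroup.mem_top _)
      conv_rhs => rw [← h1]
      rw [← Module.End.mul_apply, ← map_mul, ← Module.End.mul_apply, ← map_mul,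
        show h * (h⁻¹ * (m : H) * h) = (m : H) * h by group]
    · refine hM0 ((Subgroup.eq_bot_iff_forall _).2 fun m hm => hinj (LinearMap.ext fun v => ?_))
      rw [map_one, Module.End.one_apply]
      exact mem_fixGroup.1 (htop ▸ Submodule.mem_top : v ∈ fixGroup ρM ⊤) ⟨m, hm⟩
        (Subgroup.mem_top _)
  have hfix : ∀ v, (∀ l, ρM l v = v) → v = 0 := fun v hv =>
    (Submodule.mem_bot (ZMod p)).1 (hfixM ▸ mem_fixGroup.2 fun l _ => hv l)
  have hL : (Nat.card M : ZMod p) ≠ 0 := by
    rw [Ne, ZMod.natCast_eq_zero_iff]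
    intro hd
    have := Fact.mk hr
    obtain ⟨k, hk⟩ := hMp.exists_card_eq
    rw [hk] at hd
    have hrp : p = r := (Nat.prime_dvd_prime_iff_eq hp.out hr).1 (hp.out.dvd_of_dvd_pow hd)
    subst hrp
    letI : MulAction M V := MulAction.compHom V ρM
    have hVp : p ∣ Nat.card V := by
      haveI : Module.Finite (ZMod p) V := Module.Finite.of_finite
      rw [Module.natCard_eq_pow_finrank (K := ZMod p), Nat.card_zmod]
      exact dvd_pow_self p Module.finrank_pos.ne'
    obtain ⟨b, hb, hb0⟩ := hMp.exists_fixed_point_of_prime_dvd_card_of_fixed_point V hVp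
      (a := (0 : V)) (fun g => map_zero (ρM g))
    exact hb0 (hfix b fun l => hb l).symm
  haveI : Module.Finite (ZMod p) V := Module.Finite.of_finite
  have hcos : ∀ h : H, 2 * ∑ l : M, finrank (ZMod p) (fixSub (ρ (h * (l : H)))) ≤
      Nat.card M * finrank (ZMod p) V := by
    intro h
    have key := two_mul_sum_fix_le (k := ZMod p) hL (MulAut.conjNormal h : MulAut M) ρM (ρ h)
      (hinv h) (fun l => by
        show ρ h * ρ (l : H) = ρ ((MulAut.conjNormal h l : M) : H) * ρ h
        rw [← map_mul, ← map_mul, MulAut.conjNormal_apply, inv_mul_cancel_right]) hfix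
    have e : ∀ l : M, ρ h * ρM l = ρ (h * (l : H)) := fun l => (map_mul ρ _ _).symm
    refine le_trans (le_of_eq ?_) key
    exact congrArg (2 * ·) (Finset.sum_congr rfl fun l _ => by rw [← e l])
  have hsum : ∑ h : H, ∑ l : M, finrank (ZMod p) (fixSub (ρ (h * (l : H)))) =
      Nat.card M * ∑ h, finrank (ZMod p) (fixSub (ρ h)) := by
    have h1 : ∀ l : M, ∑ h : H, finrank (ZMod p) (fixSub (ρ (h * (l : H)))) =
        ∑ h, finrank (ZMod p) (fixSub (ρ h)) := fun l =>
      Equiv.sum_comp (Equiv.mulRight (l : H)) fun h => finrank (ZMod p) (fixSub (ρ h))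
    rw [Finset.sum_comm, Finset.sum_congr rfl fun l _ => h1 l, Finset.sum_const, Finset.card_univ,
      smul_eq_mul, Nat.card_eq_fintype_card]
  refine Nat.le_of_mul_le_mul_left ?_ (Nat.card_pos (α := M))
  calc Nat.card M * (2 * ∑ h, finrank (ZMod p) (fixSub (ρ h)))
      = ∑ h : H, 2 * ∑ l : M, finrank (ZMod p) (fixSub (ρ (h * (l : H)))) := by
        rw [← Finset.mul_sum, hsum]; ring
    _ ≤ ∑ _h : H, Nat.card M * finrank (ZMod p) V := Finset.sum_le_sum fun h _ => hcos h
    _ = Nat.card M * (Nat.card H * finrank (ZMod p) V) := by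
        simp [Nat.card_eq_fintype_card]; ring

theorem two_mul_sum_fix_irred {G : Type u} [Group G] [Fintype G] [Group.IsSolvable G]
    (ρ : G →* Module.End (ZMod p) V) (hnt : ∃ g v, ρ g v ≠ v)
    (hirr : ∀ W : Submodule (ZMod p) V, (∀ g, ∀ w ∈ W, ρ g w ∈ W) → W = ⊥ ∨ W = ⊤) :
    2 * ∑ g, finrank (ZMod p) (fixSub (ρ g)) ≤ Nat.card G * finrank (ZMod p) V := by
  classical
  obtain ⟨g₀, v₀, hg₀⟩ := hnt
  haveI : Fintype (G ⧸ ρ.ker) := Fintype.ofFinite _
  haveI : Nontrivial (G ⧸ ρ.ker) := by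
    refine ⟨⟨(g₀ : G ⧸ ρ.ker), 1, fun e => hg₀ ?_⟩⟩
    rw [MonoidHom.mem_ker.1 ((QuotientGroup.eq_one_iff g₀).1 e), Module.End.one_apply]
  set σ : G ⧸ ρ.ker →* Module.End (ZMod p) V := QuotientGroup.lift ρ.ker ρ le_rfl with hσ
  have hσap : ∀ x : G, σ (x : G ⧸ ρ.ker) = ρ x := fun x => rfl
  have hinj : Function.Injective σ := by
    refine (injective_iff_map_eq_one σ).2 fun q => ?_
    induction q using QuotientGroup.induction_on with
    | _ x => exact fun h => (QuotientGroup.eq_one_iff x).2 (MonoidHom.mem_ker.2 ((hσap x).symm.trans h))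
  have key := two_mul_sum_fix_faithful σ hinj fun W hW =>
    hirr W fun g w hw => hσap g ▸ hW (g : G ⧸ ρ.ker) w hw
  have hfib : ∀ q : G ⧸ ρ.ker,
      (Finset.univ.filter fun g : G => (g : G ⧸ ρ.ker) = q).card = Nat.card ρ.ker := by
    intro q
    induction q using QuotientGroup.induction_on with
    | _ x =>
      rw [Nat.card_eq_fintype_card, ← Finset.card_univ]
      refine Finset.card_bij' (fun g hg => ⟨x⁻¹ * g, ?_⟩) (fun k _ => x * k) (by simp) ?_ (by simp)
        (by simp)
      · exact QuotientGroup.eq.1 (Finset.mem_filter.1 hg).2.symm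
      · intro k _
        refine Finset.mem_filter.2 ⟨Finset.mem_univ _, QuotientGroup.eq.2 ?_⟩
        simpa using inv_mem k.2
  have hsum : ∑ g, finrank (ZMod p) (fixSub (ρ g)) =
      Nat.card ρ.ker * ∑ q : G ⧸ ρ.ker, finrank (ZMod p) (fixSub (σ q)) := by
    rw [← Finset.sum_fiberwise Finset.univ (fun g : G => (g : G ⧸ ρ.ker)), Finset.mul_sum]
    refine Finset.sum_congr rfl fun q _ => ?_
    rw [Finset.sum_congr rfl (g := fun _ => finrank (ZMod p) (fixSub (σ q)))
      fun g hg => by rw [← (Finset.mem_filter.1 hg).2, hσap], Finset.sum_const, hfib, smul_eq_mul]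
  calc 2 * ∑ g, finrank (ZMod p) (fixSub (ρ g))
      = Nat.card ρ.ker *
          (2 * ∑ q : G ⧸ ρ.ker, finrank (ZMod p) (fixSub (σ q))) := by
        rw [hsum]; ring
    _ ≤ Nat.card ρ.ker * (Nat.card (G ⧸ ρ.ker) * finrank (ZMod p) V) :=
        Nat.mul_le_mul_left _ key
    _ = Nat.card G * finrank (ZMod p) V := by
        rw [Subgroup.card_eq_card_quotient_mul_card_subgroup ρ.ker]; ring

end Cfsg.Agent.PrimitiveClassSize
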