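import Cfsg.Agent.Lib.Char.Inner
import Cfsg.Agent.Lib.CharApp.Clifford
import Mathlib.GroupTheory.FiniteAbelian.Duality
import Mathlib.GroupTheory.QuotientGroup.Basic
import Mathlib.Analysis.Complex.Polynomial.Basic
import Mathlib.RingTheory.RootsOfUnity.AlgebraicallyClosed

/-!
# A character homogeneous on both ends of a chief factor

* `exists_homogeneous` : a primitive irreducible character is homogeneous on every normal subgroup
* `ramified_or_eq` : `N < M` a minimal step with abelian factor; if `χ` is `e θ` on `N` and `e' θ'`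
  on `M`, then `e = e'` or `e² = e'² |M : N|`.
-/

set_option autoImplicit false
set_option linter.unusedSectionVars false

open scoped ComplexConjugate

namespace Cfsg.Agent.PrimitiveClassSize

open Cfsg Cfsg.Agent Cfsg.Agent.Char

universe u

variable {G : Type u} [Group G] [Fintype G]

theorem exists_homogeneous {χ : G → ℂ} (hχ : IsIrrCharacter G χ)
    (hprim : ¬ ∃ (H : Subgroup G), H ≠ ⊤ ∧ ∃ θ : ↥H → ℂ, IsCharacter ↥H θ ∧ indFun H θ = χ)
    (A : Subgroup G) [A.Normal] :
    ∃ θ : A → ℂ, IsIrrCharacter A θ ∧ ∃ e : ℕ, e ≠ 0 ∧ ∀ a : A, χ a = (e : ℂ) * θ a := by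
  classical
  have hχc := IsIrrCharacter.isCharacter hχ
  obtain ⟨θ, hθ⟩ := CharApp.exists_constituent (IsCharacter.restrict hχc A)
    (IsIrrCharacter.apply_one_ne_zero hχ)
  by_cases hT : CharApp.inertia A (θ : A → ℂ) = ⊤
  · obtain ⟨e, he⟩ := IsCharacter.classInner_nat (IsCharacter.restrict hχc A)
      (IsIrrCharacter.isCharacter θ.2)
    refine ⟨θ, θ.2, e, fun h => hθ (by rw [he, h, Nat.cast_zero]), fun a => ?_⟩
    have := congrFun (CharApp.restrict_invariant A hχ θ.2 hθ fun x =>
      (CharApp.mem_inertia A).1 (hT ▸ Subgroup.mem_top x)) a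
    rwa [Pi.smul_apply, smul_eq_mul, he] at this
  · obtain ⟨ψ, hψ, hind, -, -⟩ := CharApp.exists_correspondent A θ.2 hχ hθ
    exact absurd ⟨_, hT, ψ, IsIrrCharacter.isCharacter hψ, hind⟩ hprim

theorem sum_mul_conj {A : Subgroup G} [Fintype A] {χ : G → ℂ} {θ : A → ℂ} (hθ : IsIrrCharacter A θ)
    {e : ℕ} (h : ∀ a : A, χ a = (e : ℂ) * θ a) :
    ∑ a : A, χ a * conj (χ a) = ((e ^ 2 * Nat.card A : ℕ) : ℂ) := by
  calc ∑ a : A, χ a * conj (χ a) = ∑ a : A, (e : ℂ) ^ 2 * (θ a * conj (θ a)) :=
        Finset.sum_congr rfl fun a _ => by rw [h a, map_mul, Complex.conj_natCast]; ring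
    _ = _ := by
        rw [← Finset.mul_sum, ← card_mul_classInner, classInner_irr_self hθ]
        push_cast
        ring

theorem ramified_or_eq {χ : G → ℂ} (hcl : IsClassFunction G χ) {N M : Subgroup G} [hN : N.Normal]
    [hM : M.Normal] (hle : N ≤ M)
    (hmin : ∀ K : Subgroup G, K.Normal → N ≤ K → K ≤ M → K = N ∨ K = M)
    (hab : ∀ x ∈ M, ∀ y ∈ M, x * y * x⁻¹ * y⁻¹ ∈ N)
    {e e' : ℕ} {θ : N → ℂ} {θ' : M → ℂ} (hθ : IsIrrCharacter N θ) (hθ' : IsIrrCharacter M θ')
    (he : ∀ a : N, χ a = (e : ℂ) * θ a) (he' : ∀ a : M, χ a = (e' : ℂ) * θ' a) :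
    e = e' ∨ e ^ 2 = e' ^ 2 * N.relIndex M := by
  classical
  haveI := Fintype.ofFinite N
  haveI := Fintype.ofFinite M
  have hS := sum_mul_conj hθ he
  have hS' := sum_mul_conj hθ' he'
  have hcard : N.relIndex M * Nat.card N = Nat.card M := by
    rw [Subgroup.relIndex, mul_comm, ← Nat.card_congr (Subgroup.subgroupOfEquivOfLe hle).toEquiv]
    exact Subgroup.card_mul_index _
  -- the restriction to `N` as a sum over `M`
  have hext : ∑ m : M, (if (m : G) ∈ N then χ m * conj (χ m) else 0) =
      ∑ a : N, χ a * conj (χ a) := by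
    rw [← Finset.sum_filter]
    refine Finset.sum_bij' (fun m hm => ⟨(m : G), (Finset.mem_filter.1 hm).2⟩)
      (fun a _ => ⟨(a : G), hle a.2⟩) (fun _ _ => Finset.mem_univ _)
      (fun a _ => Finset.mem_filter.2 ⟨Finset.mem_univ _, a.2⟩) (fun _ _ => rfl) (fun _ _ => rfl)
      (fun _ _ => rfl)
  set S : Set G := (N : Set G) ∪ {m | m ∈ M ∧ χ m ≠ 0} with hSdef
  haveI : (Subgroup.normalClosure S).Normal := Subgroup.normalClosure_normal
  rcases hmin (Subgroup.normalClosure S) inferInstance
      (fun x hx => Subgroup.subset_normalClosure (Or.inl hx))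
      (Subgroup.normalClosure_le_normal (Set.union_subset hle fun m hm => hm.1)) with hK | hK
  · -- `χ` vanishes on `M \ N`
    right
    have hzero : ∀ m : M, (m : G) ∉ N → χ m * conj (χ m) = 0 := by
      intro m hm
      by_contra hne
      exact hm (hK ▸ Subgroup.subset_normalClosure
        (Or.inr ⟨m.2, fun h => hne (by rw [h, zero_mul])⟩))
    have h2 : ∑ m : M, χ m * conj (χ m) = ∑ a : N, χ a * conj (χ a) := by
      rw [← hext]
      refine Finset.sum_congr rfl fun m _ => ?_
      split
      · rfl
      · exact hzero m ‹_›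
    rw [hS, hS', Nat.cast_inj, ← hcard, ← mul_assoc] at h2
    exact (Nat.eq_of_mul_eq_mul_right Nat.card_pos h2).symm
  · -- the twists of `θ'` by the linear characters of `M / N` are distinct
    left
    set N' := N.subgroupOf M with hN'
    letI : CommGroup (M ⧸ N') :=
      { (inferInstance : Group (M ⧸ N')) with
        mul_comm := fun a b => by
          induction a using QuotientGroup.induction_on with
          | _ x =>
            induction b using QuotientGroup.induction_on with
            | _ y =>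
              rw [← QuotientGroup.mk_mul, ← QuotientGroup.mk_mul, QuotientGroup.eq,
                Subgroup.mem_subgroupOf]
              have h := hab _ (inv_mem y.2) _ (inv_mem x.2)
              convert h using 1
              push_cast
              group }
    haveI : NeZero (Monoid.exponent (M ⧸ N')) := ⟨Monoid.exponent_ne_zero_of_finite⟩
    obtain ⟨eq⟩ := CommGroup.monoidHom_mulEquiv_of_hasEnoughRootsOfUnity (M ⧸ N') ℂ
    haveI : Finite ((M ⧸ N') →* ℂˣ) := Finite.of_equiv _ eq.symm.toEquiv
    haveI := Fintype.ofFinite ((M ⧸ N') →* ℂˣ)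
    set F : ((M ⧸ N') →* ℂˣ) → M → ℂ := fun l m => ((l (m : M ⧸ N') : ℂˣ) : ℂ) with hF
    have hcharsum : ∀ m : M, ∑ l, F l m =
        if (m : G) ∈ N then (Nat.card (M ⧸ N') : ℂ) else 0 := by
      intro m
      by_cases hm : (m : G) ∈ N
      · rw [if_pos hm, Finset.sum_congr rfl (g := fun _ => (1 : ℂ)) fun l _ => by
            rw [hF]
            show ((l (m : M ⧸ N') : ℂˣ) : ℂ) = 1
            rw [(QuotientGroup.eq_one_iff m).2 (Subgroup.mem_subgroupOf.2 hm), map_one,
              Units.val_one],
          Finset.sum_const, Finset.card_univ, nsmul_eq_mul, mul_one,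
          ← Nat.card_eq_fintype_card, Nat.card_congr eq.toEquiv]
      · rw [if_neg hm]
        obtain ⟨l₀, hl₀⟩ := CommGroup.exists_apply_ne_one_of_hasEnoughRootsOfUnity (M ⧸ N') ℂ
          (a := (m : M ⧸ N')) fun h => hm (Subgroup.mem_subgroupOf.1 ((QuotientGroup.eq_one_iff m).1 h))
        have h1 : ∑ l, F l m = F l₀ m * ∑ l, F l m := by
          rw [Finset.mul_sum]
          exact (Fintype.sum_equiv (Equiv.mulLeft l₀) _ _ fun l => by
            simp [hF]).symm
        rcases eq_or_ne (∑ l, F l m) 0 with h | h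
        · exact h
        · exact absurd (Units.ext ((mul_eq_right₀ h).1 h1.symm)) hl₀
    have horth : ∀ l : (M ⧸ N') →* ℂˣ, l ≠ 1 → ∑ m : M, χ m * conj (χ m) * F l m = 0 := by
      intro l hl
      set L : M →* ℂ := ((Units.coeHom ℂ).comp l).comp (QuotientGroup.mk' N') with hL
      have hLF : ∀ m, L m = F l m := fun m => rfl
      have hne : (fun m => θ' m * L m) ≠ θ' := by
        intro heq
        refine hl (MonoidHom.ext fun q => ?_)
        have hker : Subgroup.normalClosure S ≤ (l.comp (QuotientGroup.mk' N')).ker.map M.subtype := by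
          have hsub : S ⊆ (l.comp (QuotientGroup.mk' N')).ker.map M.subtype := by
            rintro x (hx | ⟨hx, hx0⟩)
            · refine ⟨⟨x, hle hx⟩, ?_, rfl⟩
              show l ((⟨x, hle hx⟩ : M) : M ⧸ N') = 1
              rw [(QuotientGroup.eq_one_iff _).2 (Subgroup.mem_subgroupOf.2 hx), map_one]
            · refine ⟨⟨x, hx⟩, ?_, rfl⟩
              show l ((⟨x, hx⟩ : M) : M ⧸ N') = 1
              have h0 : θ' ⟨x, hx⟩ ≠ 0 := fun h => hx0 (by
                have := he' ⟨x, hx⟩
                rw [h, mul_zero] at this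
                exact this)
              refine Units.ext ?_
              have h1 := congrFun heq ⟨x, hx⟩
              exact mul_eq_left₀ h0 |>.1 h1
          -- `S` is invariant under conjugation
          rw [Subgroup.normalClosure, Subgroup.closure_le]
          intro y hy
          obtain ⟨a, ha, hconj⟩ := Group.mem_conjugatesOfSet_iff.1 hy
          obtain ⟨g, rfl⟩ := isConj_iff.1 hconj
          refine hsub ?_
          rcases ha with ha | ⟨ha, ha0⟩
          · exact Or.inl (hN.conj_mem a ha g)
          · exact Or.inr ⟨hM.conj_mem a ha g, by rwa [hcl a g]⟩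
        induction q using QuotientGroup.induction_on with
        | _ x =>
          obtain ⟨y, hy, e⟩ := hker (hK.ge x.2)
          obtain rfl : y = x := Subtype.ext e
          exact hy
      have h0 := classInner_irr_of_ne (IsIrrCharacter.mul_linear hθ' L) hθ' hne
      have h1 := card_mul_classInner (fun m => θ' m * L m) θ'
      rw [h0, mul_zero] at h1
      calc ∑ m : M, χ m * conj (χ m) * F l m
          = ∑ m : M, (e' : ℂ) ^ 2 * (θ' m * L m * conj (θ' m)) :=
            Finset.sum_congr rfl fun m _ => by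
              rw [he' m, hLF, map_mul, Complex.conj_natCast]; ring
        _ = 0 := by rw [← Finset.mul_sum, ← h1, mul_zero]
    have hdouble : ∑ l, ∑ m : M, χ m * conj (χ m) * F l m =
        (Nat.card (M ⧸ N') : ℂ) * ∑ a : N, χ a * conj (χ a) := by
      rw [Finset.sum_comm, ← hext, Finset.mul_sum]
      refine Finset.sum_congr rfl fun m _ => ?_
      rw [← Finset.mul_sum, hcharsum]
      split <;> ring
    rw [Finset.sum_eq_single 1 (fun l _ hl => horth l hl) (by simp)] at hdouble
    have hone : ∑ m : M, χ m * conj (χ m) * F 1 m = ∑ m : M, χ m * conj (χ m) :=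
      Finset.sum_congr rfl fun m _ => by simp [hF]
    rw [hone, hS, hS', ← Nat.cast_mul, Nat.cast_inj, ← Subgroup.index_eq_card] at hdouble
    have hidx : N'.index = N.relIndex M := rfl
    rw [hidx, ← hcard, mul_left_comm (N.relIndex M)] at hdouble
    have := Nat.eq_of_mul_eq_mul_right (mul_pos (Subgroup.index_ne_zero_of_finite
      (H := N')).bot_lt Nat.card_pos) hdouble
    exact (Nat.pow_left_injective two_ne_zero this).symm

end Cfsg.Agent.PrimitiveClassSize
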