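import Cfsg.Agent.Lib.PrimitiveClassSize.Irred
import Cfsg.Agent.Lib.PrimitiveClassSize.Support

/-!
# Class sizes against the degree of a primitive character of a solvable group

Along a chief series the degree grows only at fully ramified factors, and there a random element
fixes at most half of the factor.

* `exists_class_ge` : some class size has `p`-part at least that of the degree
-/

set_option autoImplicit false
set_option linter.unusedSectionVars false
set_option linter.style.haveILetI false

open Module

namespace Cfsg.Agent.PrimitiveClassSize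

open Cfsg.Agent.FixedHalf (fixSub mem_fixSub)
open Cfsg Cfsg.Agent.Char
open scoped ComplexConjugate

universe u

variable {G : Type u} [Group G] [Fintype G] {p : ℕ} [hp : Fact p.Prime]

/-- The elements centralised by `g` modulo `N`. -/
def centMod (N : Subgroup G) [N.Normal] (g : G) : Subgroup G :=
  (Subgroup.centralizer {(g : G ⧸ N)}).comap (QuotientGroup.mk' N)

theorem centMod_mono {N M : Subgroup G} [N.Normal] [M.Normal] (h : N ≤ M) (g : G) :
    centMod N g ≤ centMod M g := by
  intro x hx
  rw [centMod, Subgroup.mem_comap, Subgroup.mem_centralizer_singleton_iff] at hx ⊢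
  exact congrArg (QuotientGroup.map N M (MonoidHom.id G) h) hx

theorem le_centMod (N : Subgroup G) [N.Normal] (g : G) : N ≤ centMod N g := by
  intro x hx
  rw [centMod, Subgroup.mem_comap, Subgroup.mem_centralizer_singleton_iff, QuotientGroup.mk'_apply,
    (QuotientGroup.eq_one_iff x).2 hx, one_mul, mul_one]

theorem centMod_bot (g : G) : centMod (⊥ : Subgroup G) g = Subgroup.centralizer {g} := by
  ext x
  rw [centMod, Subgroup.mem_comap, Subgroup.mem_centralizer_singleton_iff,
    Subgroup.mem_centralizer_singleton_iff, QuotientGroup.mk'_apply, ← QuotientGroup.mk_mul,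
    ← QuotientGroup.mk_mul, QuotientGroup.eq, Subgroup.mem_bot, inv_mul_eq_one]

/-- The class size of `g` modulo a normal subgroup drops by at least the index of the fixed points
of `g` on a normal section below. -/
theorem factorization_index_ge {N M : Subgroup G} [N.Normal] [M.Normal] (h : N ≤ M) (g : G) :
    (centMod M g).index.factorization p + ((centMod N g).relIndex M).factorization p ≤
      (centMod N g).index.factorization p := by
  set K := centMod N g
  set L := centMod M g
  have hKL : K ≤ L := centMod_mono h g
  have hML : M ≤ L := le_centMod M g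
  have h1 := Subgroup.relIndex_mul_relIndex (M ⊓ K) M (M ⊔ K) inf_le_left le_sup_left
  have h2 := Subgroup.relIndex_mul_relIndex (M ⊓ K) K (M ⊔ K) inf_le_right le_sup_right
  have e1 : M.relIndex (M ⊔ K) = M.relIndex K := by rw [sup_comm, Subgroup.relIndex_sup_right]
  rw [Subgroup.inf_relIndex_left, e1, mul_comm] at h1
  rw [Subgroup.inf_relIndex_right] at h2
  have e2 : K.relIndex (M ⊔ K) = K.relIndex M :=
    Nat.eq_of_mul_eq_mul_left (Nat.pos_of_ne_zero Subgroup.index_ne_zero_of_finite)
      (h2.trans h1.symm)
  have h3 := Subgroup.relIndex_mul_relIndex K (M ⊔ K) L le_sup_right (sup_le hML hKL)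
  have hdvd : K.relIndex M ∣ K.relIndex L := e2 ▸ ⟨_, h3.symm⟩
  rw [← Subgroup.relIndex_mul_index hKL,
    Nat.factorization_mul (a := K.relIndex L) (b := L.index) Subgroup.index_ne_zero_of_finite Subgroup.index_ne_zero_of_finite,
    Finsupp.add_apply, add_comm]
  exact Nat.add_le_add_right ((Nat.factorization_le_iff_dvd Subgroup.index_ne_zero_of_finite
    Subgroup.index_ne_zero_of_finite).2 hdvd p) _

/-- A solvable group acting irreducibly and non-trivially by automorphisms on an abelian group of
exponent `p`: the fixed groups have on average at most half the rank. -/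
theorem two_mul_sum_fixed [Group.IsSolvable G] {A : Type u} [CommGroup A] [Finite A] [Nontrivial A]
    (hexp : ∀ a : A, a ^ p = 1) (c : G →* MulAut A) (hnt : ∃ g a, c g a ≠ a)
    (hsub : ∀ B : Subgroup A, (∀ g, ∀ a ∈ B, c g a ∈ B) → B = ⊥ ∨ B = ⊤) :
    2 * ∑ g, (Nat.card {a : A // c g a = a}).factorization p ≤
      Nat.card G * (Nat.card A).factorization p := by
  classical
  haveI : Module (ZMod p) (Additive A) := AddCommGroup.zmodModule fun a =>
    (ofMul_pow p a.toMul).symm.trans (congrArg Additive.ofMul (hexp a.toMul))
  let ρ : G →* Module.End (ZMod p) (Additive A) :=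
    { toFun := fun g => AddMonoidHom.toZModLinearMap p (MonoidHom.toAdditive (c g).toMonoidHom)
      map_one' := LinearMap.ext fun a =>
        congrArg Additive.ofMul (DFunLike.congr_fun c.map_one a.toMul)
      map_mul' := fun g h => LinearMap.ext fun a =>
        congrArg Additive.ofMul (DFunLike.congr_fun (c.map_mul g h) a.toMul) }
  have hρ : ∀ (g : G) (a : A), ρ g (Additive.ofMul a) = Additive.ofMul (c g a) := fun _ _ => rfl
  have hdim : (Nat.card A).factorization p = finrank (ZMod p) (Additive A) := by
    rw [← Nat.card_congr (Additive.ofMul (α := A)).symm, Module.natCard_eq_pow_finrank (K := ZMod p),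
      Nat.card_zmod, Nat.Prime.factorization_pow hp.out, Finsupp.single_eq_same]
  have hfix : ∀ g : G, (Nat.card {a : A // c g a = a}).factorization p =
      finrank (ZMod p) (fixSub (ρ g)) := by
    intro g
    have e : Nat.card {a : A // c g a = a} = Nat.card (fixSub (ρ g)) :=
      Nat.card_congr (Equiv.subtypeEquiv Additive.ofMul fun a => by
        rw [mem_fixSub, hρ, Additive.ofMul.injective.eq_iff])
    rw [e, Module.natCard_eq_pow_finrank (K := ZMod p), Nat.card_zmod,
      Nat.Prime.factorization_pow hp.out, Finsupp.single_eq_same]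
  obtain ⟨g₀, a₀, h₀⟩ := hnt
  have key := two_mul_sum_fix_irred ρ ⟨g₀, Additive.ofMul a₀, fun e => h₀ (Additive.ofMul.injective
    ((hρ g₀ a₀).symm.trans e))⟩ fun W hW => by
    rcases hsub (AddSubgroup.toSubgroup' W.toAddSubgroup) fun g a ha => hW g _ ha with h | h
    · left
      refine (Submodule.eq_bot_iff W).2 fun v hv => ?_
      exact congrArg Additive.ofMul ((Subgroup.eq_bot_iff_forall _).1 h v.toMul hv)
    · right
      exact eq_top_iff.2 fun v _ => (h.ge (Subgroup.mem_top v.toMul) : _)
  rw [hdim, Finset.sum_congr rfl fun g _ => hfix g]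
  exact key

/-- On a chief factor of order `p ^ d`, not central or not of order `p`, an element has on average
an orbit step of at least `d / 2`. -/
theorem sum_factorization_relIndex [Group.IsSolvable G] {N M : Subgroup G} [hN : N.Normal]
    [hM : M.Normal] (hle : N ≤ M) (hlt : N ≠ M)
    (hmin : ∀ K : Subgroup G, K.Normal → N ≤ K → K ≤ M → K = N ∨ K = M)
    (hab : ∀ x ∈ M, ∀ y ∈ M, x * y * x⁻¹ * y⁻¹ ∈ N) (hexp : ∀ x ∈ M, x ^ p ∈ N)
    (hne : N.relIndex M ≠ p) :
    Nat.card G * (N.relIndex M).factorization p ≤
      2 * ∑ g : G, ((centMod N g).relIndex M).factorization p := by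
  classical
  set π := QuotientGroup.mk' N with hπ
  set A := M.map π with hA
  haveI hAn : A.Normal := hM.map π (QuotientGroup.mk'_surjective N)
  have hAcard : Nat.card A = N.relIndex M := by
    rw [← Subgroup.relIndex_bot_left, hA, ← Subgroup.relIndex_comap]
    congr 1
    exact QuotientGroup.ker_mk' N
  letI : CommGroup A :=
    { (inferInstance : Group A) with
      mul_comm := by
        rintro ⟨_, x, hx, rfl⟩ ⟨_, y, hy, rfl⟩
        refine Subtype.ext ?_
        show π x * π y = π y * π x
        rw [← map_mul, ← map_mul]
        refine QuotientGroup.eq.2 ?_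
        have h := hab _ (inv_mem hy) _ (inv_mem hx)
        convert h using 1
        group }
  have hpA : ∀ a : A, a ^ p = 1 := by
    rintro ⟨_, x, hx, rfl⟩
    refine Subtype.ext ?_
    rw [Subgroup.coe_pow, Subgroup.coe_one]
    show π x ^ p = _
    rw [← map_pow]
    exact (QuotientGroup.eq_one_iff _).2 (hexp x hx)
  haveI : Nontrivial A := by
    rw [← Finite.one_lt_card_iff_nontrivial, hAcard]
    refine lt_of_le_of_ne (Nat.pos_of_ne_zero Subgroup.index_ne_zero_of_finite) fun e => hlt ?_
    exact le_antisymm hle (Subgroup.relIndex_eq_one.1 e.symm)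
  let c : G →* MulAut A := MulAut.conjNormal.comp π
  have hc : ∀ g a, c g a = MulAut.conjNormal (π g) a := fun _ _ => rfl
  have hfix : ∀ g : G, ((centMod N g).relIndex M).factorization p +
      (Nat.card {a : A // c g a = a}).factorization p = (N.relIndex M).factorization p := by
    intro g
    set C := (Subgroup.centralizer {(g : G ⧸ N)}).subgroupOf A with hC
    have hrel : (centMod N g).relIndex M = C.index := Subgroup.relIndex_comap _ _ _
    have hcardC : Nat.card C = Nat.card {a : A // c g a = a} := by
      refine Nat.card_congr (Equiv.subtypeEquivRight fun a => ?_)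
      rw [hc, hC, Subgroup.mem_subgroupOf, Subgroup.mem_centralizer_singleton_iff,
        Subtype.ext_iff, MulAut.conjNormal_apply, mul_inv_eq_iff_eq_mul]
      exact eq_comm
    rw [hrel, ← hcardC, ← hAcard, ← Subgroup.card_mul_index C,
      Nat.factorization_mul Nat.card_pos.ne' Subgroup.index_ne_zero_of_finite, Finsupp.add_apply,
      add_comm]
  have hsub : ∀ B : Subgroup A, (∀ g : G, ∀ a ∈ B, MulAut.conjNormal (π g) a ∈ B) → B = ⊥ ∨ B = ⊤ := by
    intro B hB
    haveI : (B.map A.subtype).Normal := by
      refine ⟨?_⟩
      rintro _ ⟨a, ha, rfl⟩ x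
      obtain ⟨g, rfl⟩ := QuotientGroup.mk'_surjective N x
      exact ⟨_, hB g a ha, MulAut.conjNormal_apply _ _⟩
    have hNle : N ≤ (B.map A.subtype).comap π := fun x hx => by
      rw [Subgroup.mem_comap, hπ, QuotientGroup.mk'_apply, (QuotientGroup.eq_one_iff x).2 hx]
      exact one_mem _
    have hle' : (B.map A.subtype).comap π ≤ M := by
      intro x hx
      obtain ⟨⟨_, y, hy, rfl⟩, -, e⟩ := hx
      have h1 : y⁻¹ * x ∈ N := QuotientGroup.eq.1 e
      have : x = y * (y⁻¹ * x) := by group
      rw [this]
      exact M.mul_mem hy (hle h1)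
    rcases hmin _ inferInstance hNle hle' with h | h
    · left
      refine (Subgroup.eq_bot_iff_forall B).2 fun a ha => ?_
      obtain ⟨x, hx⟩ := QuotientGroup.mk'_surjective N (a : G ⧸ N)
      have : x ∈ (B.map A.subtype).comap π := ⟨a, ha, hx.symm⟩
      rw [h] at this
      exact Subtype.ext (hx.symm.trans ((QuotientGroup.eq_one_iff x).2 this))
    · right
      refine eq_top_iff.2 fun a _ => ?_
      obtain ⟨x, hx, e⟩ := a.2
      obtain ⟨b, hb, hb'⟩ := (h.ge hx : x ∈ (B.map A.subtype).comap π)
      exact (Subtype.ext (hb'.trans e) : b = a) ▸ hb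
  have hnt : ∃ g a, c g a ≠ a := by
    by_contra hcon
    push Not at hcon
    obtain ⟨a, ha⟩ := exists_ne (1 : A)
    have htop := (hsub (Subgroup.zpowers a) fun g b hb => by
      rw [← hc, hcon g b]
      exact hb).resolve_left (Subgroup.zpowers_ne_bot.2 ha)
    refine hne ?_
    rw [← hAcard, ← Subgroup.card_top (G := A), ← htop, Nat.card_zpowers]
    exact orderOf_eq_prime (hpA a) ha
  have key := two_mul_sum_fixed hpA c hnt hsub
  rw [hAcard] at key
  have hsum := Finset.sum_congr (s₁ := (Finset.univ : Finset G)) rfl fun g _ => hfix g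
  rw [Finset.sum_add_distrib, Finset.sum_const, Finset.card_univ, smul_eq_mul,
    ← Nat.card_eq_fintype_card] at hsum
  omega

theorem exists_class_ge [Group.IsSolvable G] (χ : IrrCharacter G)
    (hprim : ¬ ∃ (H : Subgroup G), H ≠ ⊤ ∧ ∃ θ : ↥H → ℂ, IsCharacter ↥H θ ∧ indFun H θ = (χ : G → ℂ)) :
    ∃ g : G, (charDegree (χ : G → ℂ)).factorization p ≤
      ((Subgroup.centralizer ({g} : Set G)).index).factorization p := by
  classical
  have hcl : IsClassFunction G (χ : G → ℂ) := IsIrrCharacter.isClassFunction χ.2
  have main : ∀ n : ℕ, ∀ (N : Subgroup G) [N.Normal], N.index ≤ n → ∀ (e : ℕ) (θ : N → ℂ),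
      IsIrrCharacter N θ → (∀ a : N, (χ : G → ℂ) a = (e : ℂ) * θ a) →
      Nat.card G * e.factorization p ≤ ∑ g, (centMod N g).index.factorization p := by
    intro n
    induction n with
    | zero => exact fun N _ h => absurd (Nat.le_zero.1 h) Subgroup.index_ne_zero_of_finite
    | succ n ih =>
      intro N hN hn e θ hθ he
      by_cases hNtop : N = ⊤
      · subst hNtop
        have h1 := sum_mul_conj hθ he
        have h2 : ∑ a : (⊤ : Subgroup G), (χ : G → ℂ) a * conj ((χ : G → ℂ) a) =
            ∑ g : G, (χ : G → ℂ) g * conj ((χ : G → ℂ) g) :=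
          Fintype.sum_equiv Subgroup.topEquiv.toEquiv _ _ fun a => rfl
        rw [h2, ← card_mul_classInner, classInner_irr_self χ.2, mul_one, Nat.cast_inj,
          Subgroup.card_top] at h1
        have : e ^ 2 = 1 := Nat.eq_of_mul_eq_mul_right Nat.card_pos (by rw [one_mul, ← h1])
        rw [(Nat.pow_eq_one.1 this).resolve_right two_ne_zero, Nat.factorization_one]
        simp
      haveI : Nontrivial (G ⧸ N) := by
        rw [← Finite.one_lt_card_iff_nontrivial, ← Subgroup.index_eq_card]
        exact lt_of_le_of_ne (Nat.pos_of_ne_zero Subgroup.index_ne_zero_of_finite)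
          fun h => hNtop (Subgroup.index_eq_one.1 h.symm)
      obtain ⟨r, hr, A, hAn, hA0, -, hAc, -, hAe, hAmin⟩ :=
        Solvable.exists_minimal_normal_pGroup (N := (⊤ : Subgroup (G ⧸ N))) top_ne_bot
      set π := QuotientGroup.mk' N with hπ
      have hsurj := QuotientGroup.mk'_surjective N
      set M := A.comap π with hM
      haveI : M.Normal := hAn.comap π
      have hker : π.ker = N := QuotientGroup.ker_mk' N
      have hle : N ≤ M := hker.ge.trans (Subgroup.ker_le_comap π A)
      have hlt : N ≠ M := fun h => hA0 (by
        rw [← Subgroup.map_comap_eq_self_of_surjective hsurj A, ← hM, ← h,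
          (Subgroup.map_eq_bot_iff _).2 hker.ge])
      have hmin : ∀ K : Subgroup G, K.Normal → N ≤ K → K ≤ M → K = N ∨ K = M := by
        intro K hK hNK hKM
        haveI := hK.map π hsurj
        have hcm : (K.map π).comap π = K := Subgroup.comap_map_eq_self (hker.le.trans hNK)
        rcases hAmin (K.map π) inferInstance (Subgroup.map_le_iff_le_comap.2 hKM) with h | h
        · left; rw [← hcm, h, MonoidHom.comap_bot, hker]
        · right; rw [← hcm, h]
      have hab : ∀ x ∈ M, ∀ y ∈ M, x * y * x⁻¹ * y⁻¹ ∈ N := by
        intro x hx y hy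
        rw [← hker, MonoidHom.mem_ker]
        have h := congrArg Subtype.val (hAc.is_comm.comm (⟨π x, hx⟩ : A) ⟨π y, hy⟩)
        simp only [Subgroup.coe_mul] at h
        simp only [map_mul, map_inv]
        rw [h]
        group
      have hexp : ∀ x ∈ M, x ^ r ∈ N := fun x hx => by
        rw [← hker, MonoidHom.mem_ker, map_pow]
        exact hAe _ hx
      obtain ⟨θ', hθ', e', he0, he'⟩ := exists_homogeneous χ.2 hprim M
      have hidx : M.index ≤ n := by
        have h1 := Subgroup.relIndex_mul_index hle
        have h2 : 1 < N.relIndex M := lt_of_le_of_ne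
          (Nat.pos_of_ne_zero Subgroup.index_ne_zero_of_finite)
          fun h => hlt (le_antisymm hle (Subgroup.relIndex_eq_one.1 h.symm))
        have h3 : 2 * M.index ≤ N.index := h1 ▸ Nat.mul_le_mul_right _ h2
        have h4 : 0 < M.index := Nat.pos_of_ne_zero Subgroup.index_ne_zero_of_finite
        omega
      have hI := ih M hidx e' θ' hθ' he'
      have hstep : ∑ g, (centMod M g).index.factorization p +
          ∑ g, ((centMod N g).relIndex M).factorization p ≤
            ∑ g, (centMod N g).index.factorization p := by
        rw [← Finset.sum_add_distrib]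
        exact Finset.sum_le_sum fun g _ => factorization_index_ge hle g
      rcases ramified_or_eq hcl hle hmin hab hθ hθ' he he' with h | h
      · subst h; omega
      have hR0 : N.relIndex M ≠ 0 := Subgroup.index_ne_zero_of_finite
      have hfac : ∀ q, 2 * e.factorization q = 2 * e'.factorization q + (N.relIndex M).factorization q := by
        intro q
        have := congrArg (fun m => m.factorization q) h
        rwa [Nat.factorization_pow, Nat.factorization_mul (pow_ne_zero _ he0) hR0,
          Nat.factorization_pow, Finsupp.smul_apply, Finsupp.add_apply, Finsupp.smul_apply,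
          smul_eq_mul, smul_eq_mul] at this
      have h5 : Nat.card G * (N.relIndex M).factorization p ≤
          2 * ∑ g, ((centMod N g).relIndex M).factorization p := by
        by_cases hrp : r = p
        · subst hrp
          refine sum_factorization_relIndex hle hlt hmin hab hexp fun hcon => ?_
          have := hfac r
          rw [hcon, hr.factorization_self] at this
          omega
        · have hpg : IsPGroup r A := fun a => ⟨1, Subtype.ext (by rw [pow_one]; exact hAe a a.2)⟩
          haveI := Fact.mk hr
          obtain ⟨k, hk⟩ := hpg.exists_card_eq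
          have hAcard : N.relIndex M = r ^ k := by
            rw [← hk, ← Subgroup.map_comap_eq_self_of_surjective hsurj A, ← hM,
              ← Subgroup.relIndex_bot_left, ← Subgroup.relIndex_comap, MonoidHom.comap_bot, hker]
          rw [hAcard, hr.factorization_pow, Finsupp.single_eq_of_ne (Ne.symm hrp), mul_zero]
          exact Nat.zero_le _
      have := hfac p
      calc Nat.card G * e.factorization p ≤ ∑ g, (centMod M g).index.factorization p +
            ∑ g, ((centMod N g).relIndex M).factorization p := by nlinarith
        _ ≤ _ := hstep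
  obtain ⟨θ, hθ, e, -, he⟩ := exists_homogeneous χ.2 hprim (⊥ : Subgroup G)
  have hbound := main _ ⊥ le_rfl e θ hθ he
  obtain ⟨d, ρ, hρirr, hρ⟩ := χ.2
  have hone : (χ : G → ℂ) 1 = d := by rw [← hρ, Representation.char_one, Module.finrank_fin_fun]
  have hdeg : charDegree (χ : G → ℂ) = d := by rw [charDegree, hone, Complex.natCast_re, Nat.floor_natCast]
  have hd : d = e := by
    have h1 := sum_mul_conj hθ he
    rw [Fintype.sum_unique, Subgroup.card_bot, mul_one] at h1
    have hdef : ((default : (⊥ : Subgroup G)) : G) = 1 := Subgroup.mem_bot.1 (Subtype.prop _)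
    rw [hdef, hone, Complex.conj_natCast, ← Nat.cast_mul, Nat.cast_inj, ← sq] at h1
    exact Nat.pow_left_injective two_ne_zero h1
  subst hd
  rw [hdeg]
  by_contra hcon
  push Not at hcon
  have : ∑ g, (centMod (⊥ : Subgroup G) g).index.factorization p < ∑ _g : G, d.factorization p := by
    refine Finset.sum_lt_sum_of_nonempty Finset.univ_nonempty fun g _ => ?_
    rw [centMod_bot]
    exact hcon g
  rw [Finset.sum_const, Finset.card_univ, smul_eq_mul, ← Nat.card_eq_fintype_card] at this
  omega

end Cfsg.Agent.PrimitiveClassSize
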